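import Cfsg.Agent.GolayOrbit.Flags
set_option linter.all false

/-!
The stabiliser of an octad and two of its points: orbits on the octads through the two points.
-/

set_option autoImplicit false

namespace Cfsg.Agent.GolayOrbit.Hexads

open Cfsg Cfsg.Agent.GolayOrbit.Basic Cfsg.Agent.GolayOrbit.Code Cfsg.Agent.GolayOrbit.Walk
  Cfsg.Agent.GolayOrbit.Cover Cfsg.Agent.GolayOrbit.Flags
open scoped Pointwise

/-- generators of the stabiliser of the standard octad and its points `p₀`, `q₀`. -/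
def gensH : List (List ℕ) :=
  [[1, 2, 4096, 128, 16, 131072, 16384, 4,
    2048, 8388608, 8, 1048576, 1024, 256, 32, 32768,
    524288, 262144, 64, 512, 4194304, 65536, 8192, 2097152],
   [1, 2, 4096, 1024, 4, 512, 1048576, 128,
    131072, 2097152, 16, 2048, 8, 32, 4194304, 256,
    32768, 262144, 65536, 16384, 524288, 8388608, 64, 8192],
   [1, 2, 128, 1024, 16, 16384, 262144, 8,
    8192, 524288, 4096, 256, 4, 4194304, 64, 32768,
    2097152, 32, 131072, 65536, 2048, 8388608, 1048576, 512],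
   [1, 2, 16, 4096, 1024, 8192, 4194304, 128,
    32768, 32, 8, 2048, 4, 8388608, 524288, 65536,
    262144, 256, 131072, 1048576, 64, 512, 16384, 2097152]]

/-- Boolean test: contains the two base points and meets the standard octad in `c` points. -/
def test (c m : ℕ) : Bool :=
  cond (bitAt m 0) (cond (bitAt m 1) (Nat.beq (popc (Nat.land O₀ m)) c) false) false

theorem test_iff {c m : ℕ} : test c m = true ↔
    p₀ ∈ ofMask m ∧ q₀ ∈ ofMask m ∧ (ofMask O₀ ∩ ofMask m).card = c := by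
  rw [← ofMask_land, card_ofMask]
  have h1 : bitAt m 0 = true ↔ p₀ ∈ ofMask m := bitAt_iff (p := p₀)
  have h2 : bitAt m 1 = true ↔ q₀ ∈ ofMask m := bitAt_iff (p := q₀)
  have h3 : Nat.beq (popc (Nat.land O₀ m)) c = true ↔ popc (O₀ &&& m) = c := Iff.of_eq Nat.beq_eq
  rw [← h1, ← h2, ← h3]
  unfold test
  cases bitAt m 0 <;> cases bitAt m 1 <;> simp

theorem cover2 : covers [1, 2, O₀] gensH 1 key1
    [3, 3, 3, 3, 2, 1, 2, 3, 3, 3, 3, 0, 1, 1, 0]
    9347075 (octadList.filter (test 2)) = true := by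
  decide +kernel

theorem cover4 : covers [1, 2, O₀] gensH 1 key1
    [2, 1, 1, 2, 2, 1, 1, 0, 3, 2, 2, 1, 0, 3, 2, 2, 2, 2, 1, 2, 3, 0, 1, 0, 3, 2, 1, 0, 1, 0, 0, 1, 2, 2, 2, 2, 1, 0, 3, 0,
  0, 0, 0, 1, 2, 2, 3, 3, 2, 2, 1, 1, 2, 3, 2, 2, 2, 2, 1]
    5902343 (octadList.filter (test 4)) = true := by
  decide +kernel

theorem meets : allB (fun m => cond (bitAt m 0) (cond (bitAt m 1)
    (cond (Nat.beq (popc (Nat.land O₀ m)) 2) true (cond (Nat.beq (popc (Nat.land O₀ m)) 4) true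
      (cond (Nat.beq (popc (Nat.land O₀ m)) 8) (Nat.beq m O₀) false))) true) true) octadList = true := by
  decide +kernel

theorem cases_card {m : ℕ} (hm : m ∈ octadList) (hp : p₀ ∈ ofMask m) (hq : q₀ ∈ ofMask m) :
    (ofMask O₀ ∩ ofMask m).card = 2 ∨ (ofMask O₀ ∩ ofMask m).card = 4 ∨
      ((ofMask O₀ ∩ ofMask m).card = 8 ∧ m = O₀) := by
  rw [← ofMask_land, card_ofMask]
  have h1 : bitAt m 0 = true := (bitAt_iff (p := p₀)).mpr hp
  have h2 : bitAt m 1 = true := (bitAt_iff (p := q₀)).mpr hq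
  have h := of_allB meets hm
  simp only [h1, h2, cond_true] at h
  have e : ∀ c, Nat.beq (popc (Nat.land O₀ m)) c = true ↔ popc (O₀ &&& m) = c :=
    fun c => Iff.of_eq Nat.beq_eq
  rcases hc2 : Nat.beq (popc (Nat.land O₀ m)) 2 with _ | _
  · rcases hc4 : Nat.beq (popc (Nat.land O₀ m)) 4 with _ | _
    · rw [hc2, hc4] at h
      simp only [cond_false] at h
      rcases hc8 : Nat.beq (popc (Nat.land O₀ m)) 8 with _ | _
      · rw [hc8] at h
        exact absurd h Bool.false_ne_true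
      · rw [hc8] at h
        exact Or.inr (Or.inr ⟨(e 8).mp hc8, Nat.eq_of_beq_eq_true h⟩)
    · exact Or.inr (Or.inl ((e 4).mp hc4))
  · exact Or.inl ((e 2).mp hc2)

theorem base {m n : ℕ} (hm : m ∈ octadList) (hn : n ∈ octadList) (hpm : p₀ ∈ ofMask m)
    (hqm : q₀ ∈ ofMask m) (hpn : p₀ ∈ ofMask n) (hqn : q₀ ∈ ofMask n)
    (h : (ofMask O₀ ∩ ofMask m).card = (ofMask O₀ ∩ ofMask n).card) :
    ∃ g ∈ M24, g p₀ = p₀ ∧ g q₀ = q₀ ∧ g • ofMask O₀ = ofMask O₀ ∧ g • ofMask m = ofMask n := by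
  have key : ∃ g ∈ fixing [1, 2, O₀], g • ofMask m = ofMask n := by
    have two : ∀ (c x : ℕ) (w : List ℕ), covers [1, 2, O₀] gensH 1 key1 w x
        (octadList.filter (test c)) = true → isCode x = true →
        (ofMask O₀ ∩ ofMask m).card = c → (ofMask O₀ ∩ ofMask n).card = c →
        ∃ g ∈ fixing [1, 2, O₀], g • ofMask m = ofMask n := by
      intro c x w hw hx hcm hcn
      obtain ⟨g, hg, hgm⟩ := exists_of_covers_code hw hx
        (List.mem_filter.mpr ⟨hm, test_iff.mpr ⟨hpm, hqm, hcm⟩⟩) (isCode_of_mem_octadList hm)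
      obtain ⟨k, hk, hkn⟩ := exists_of_covers_code hw hx
        (List.mem_filter.mpr ⟨hn, test_iff.mpr ⟨hpn, hqn, hcn⟩⟩) (isCode_of_mem_octadList hn)
      refine ⟨k * g⁻¹, Subgroup.mul_mem _ hk (Subgroup.inv_mem _ hg), ?_⟩
      rw [mul_smul, ← hgm, inv_smul_smul, hkn]
    rcases cases_card hm hpm hqm with h2 | h4 | ⟨h8, hmO⟩
    · exact two 2 _ _ cover2 (by decide +kernel) h2 (h ▸ h2)
    · exact two 4 _ _ cover4 (by decide +kernel) h4 (h ▸ h4)
    · rcases cases_card hn hpn hqn with h2' | h4' | ⟨_, hnO⟩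
      · rw [h8, h2'] at h; exact absurd h (by norm_num)
      · rw [h8, h4'] at h; exact absurd h (by norm_num)
      · rw [hmO, hnO]
        exact ⟨1, Subgroup.one_mem _, one_smul _ _⟩
  obtain ⟨g, hg, hgmn⟩ := key
  obtain ⟨hgM, hgf⟩ := mem_fixing.mp hg
  refine ⟨g, hgM, ?_, ?_, ?_, hgmn⟩
  · have h1 := hgf (2 ^ pos p₀) (by simp [show pos p₀ = 0 from rfl])
    rw [ofMask_two_pow_pos] at h1
    exact smul_singleton_eq h1
  · have h1 := hgf (2 ^ pos q₀) (by simp [show pos q₀ = 1 from rfl])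
    rw [ofMask_two_pow_pos] at h1
    exact smul_singleton_eq h1
  · exact hgf O₀ (by simp)

theorem count {c n : ℕ} (hn : hasLength (octadList.filter (test c)) n = true) :
    {x : Finset GolayPt | x ∈ octads ∧ p₀ ∈ x ∧ q₀ ∈ x ∧ (ofMask O₀ ∩ x).card = c}.ncard = n :=
  ncard_octads_filter (test c) (fun _ _ => test_iff.symm) hn

end Cfsg.Agent.GolayOrbit.Hexads
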